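import Cfsg.Agent.H539.Lim.Defs
import Cfsg.Agent.H759.FusFactor

/-!
# S5242, piece I3: `F` is realizable if the factor system `F/A` (`A` central) is realizable

From `exists_ext` (central extensions by stable classes) and `bridge`.
-/

set_option autoImplicit false

namespace Cfsg.Agent.H269.Lim

open Cfsg Cfsg.FusionSystem Cfsg.Agent.H539.Lim Cfsg.Agent.H759

universe u v

/-- the statement of I1 -/
def ExtStmt : Prop :=
  ∀ {p : ℕ} [Fact p.Prime] {G₀ : Type v} [Group G₀] [Finite G₀] (T : Sylow p G₀) {S : Type u}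
    [Group S] [Finite S] (_ : IsPGroup p S) (θ : S →* G₀) (_ : θ.range = (T : Subgroup G₀))
    (_ : θ.ker ≤ Subgroup.center S)
    (_ : ∀ g : G₀, ∃ φ : ↥(((T : Subgroup G₀) ⊓ cj g⁻¹ (T : Subgroup G₀)).comap θ) →* S,
      (∀ s : ↥(((T : Subgroup G₀) ⊓ cj g⁻¹ (T : Subgroup G₀)).comap θ), θ (φ s) = g * θ (s : S) * g⁻¹) ∧
        ∀ s : ↥(((T : Subgroup G₀) ⊓ cj g⁻¹ (T : Subgroup G₀)).comap θ), θ (s : S) = 1 → φ s = (s : S)),
    ∃ (L : Type (max v u)) (_ : Group L) (_ : Finite L) (π : L →* G₀) (ι : S →* L), Function.Surjective π ∧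
      Function.Injective ι ∧ π.comp ι = θ ∧ π.ker = θ.ker.map ι ∧ π.ker ≤ Subgroup.center L

/-- the statement of I2 -/
def BridgeStmt : Prop :=
  ∀ {p : ℕ} [Fact p.Prime] {W : Type u} [Group W] {S : Subgroup W} [Finite S] (_ : IsPGroup p S)
    (F : Cfsg.FusionSystem S) (_ : F.IsSaturated p) (A : Subgroup W) (_ : F.IsCentral A)
    {L : Type (max v u)} [Group L] [Finite L] (ι : S →* L) (_ : Function.Injective ι)
    (T : Sylow p L) (_ : (T : Subgroup L) = ι.range) (_ : (A.subgroupOf S).map ι ≤ Subgroup.center L)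
    (_ : ∀ (P : Subgroup W) (hP : P ≤ S) (φ : P →* W) (hφS : ∀ s : P, φ s ∈ S), A ≤ P → φ ∈ F.Hom P →
      ∃ l : L, ∀ s : P, (l * ι ⟨s, hP s.2⟩ * l⁻¹)⁻¹ * ι ⟨φ s, hφS s⟩ ∈ (A.subgroupOf S).map ι)
    (_ : ∀ (P : Subgroup W) (hP : P ≤ S), A ≤ P → ∀ l : L, (∀ s : P, l * ι ⟨s, hP s.2⟩ * l⁻¹ ∈ ι.range) →
      ∃ (φ : P →* W) (hφS : ∀ s : P, φ s ∈ S), φ ∈ F.Hom P ∧
        ∀ s : P, (l * ι ⟨s, hP s.2⟩ * l⁻¹)⁻¹ * ι ⟨φ s, hφS s⟩ ∈ (A.subgroupOf S).map ι),
    F.IsRealizable p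

section Setup

variable {W : Type u} [Group W] {S : Subgroup W} {F : FusionSystem S} {A : Subgroup W}
  {W' : Type v} [Group W'] {S' : Subgroup W'} {θ : ↥S →* W'} {E : FusionSystem S'}

/-- a map of the system fixes the elements of the central subgroup `A` -/
theorem apply_of_central (hA : F.IsCentral A) {P : Subgroup W} {φ : P →* W} (hφ : φ ∈ F.Hom P)
    (a : P) (ha : (a : W) ∈ A) : φ a = a := by
  obtain ⟨ψ, hψ, h1, h2⟩ := hA.2 P φ hφ
  rw [← h1 a]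
  exact h2 ⟨a, ha⟩

/-- the preimage of the image -/
theorem preimage_image (hE : F.IsFactorSystem A θ E) {P : Subgroup W} (hP : P ≤ S) (hAP : A ≤ P) :
    preimageAlong θ (imageAlong θ P) = P := by
  apply le_antisymm
  · intro y hy
    obtain ⟨hyS, hy'⟩ := mem_preimageAlong.1 hy
    obtain ⟨r, hr, hrR, hry⟩ := mem_imageAlong.1 hy'
    have h1 := (theta_eq_iff hE).1 hry
    have h2 : y = r * (r⁻¹ * y) := by group
    rw [h2]
    exact mul_mem hrR (hAP h1)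
  · intro y hy
    exact mem_preimageAlong.2 ⟨hP hy, mem_imageAlong.2 ⟨y, hP hy, hy, rfl⟩⟩

variable {G₀ : Type v} [Group G₀] {ι₀ : S' →* G₀}

/-- the conjugation map of the realizing group on a subgroup of `S'` -/
theorem exists_conj (hr : E.IsRealizedBy ι₀) {P' : Subgroup W'} (hP' : P' ≤ S') (g : G₀)
    (hg : ∀ x : P', g * ι₀ ⟨x, hP' x.2⟩ * g⁻¹ ∈ ι₀.range) :
    ∃ (φ' : P' →* W') (hφ' : ∀ x : P', φ' x ∈ S'), φ' ∈ E.Hom P' ∧
      ∀ x : P', ι₀ ⟨φ' x, hφ' x⟩ = g * ι₀ ⟨x, hP' x.2⟩ * g⁻¹ := by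
  choose f hf using hg
  let φ' : P' →* W' :=
    { toFun := fun x => (f x : W')
      map_one' := by
        have : f 1 = 1 := by
          apply hr.1
          rw [hf, map_one]
          have h1 : (⟨((1 : P') : W'), hP' (1 : P').2⟩ : S') = 1 := rfl
          rw [h1, map_one]
          group
        rw [this]
        rfl
      map_mul' := fun x y => by
        have : f (x * y) = f x * f y := by
          apply hr.1
          rw [hf, map_mul, hf, hf]
          have h1 : (⟨((x * y : P') : W'), hP' (x * y).2⟩ : S') = ⟨x, hP' x.2⟩ * ⟨y, hP' y.2⟩ := rfl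
          rw [h1, map_mul]
          group
        rw [this]
        rfl }
  refine ⟨φ', fun x => (f x).2, ?_, hf⟩
  exact (hr.2 P' hP' φ' (fun x => (f x).2)).2 ⟨g, hf⟩

end Setup

/-- **I3**, from I1 and I2 -/
theorem realizable_of_factor_aux (hext : ExtStmt.{u, v}) (hbr : BridgeStmt.{u, v}) (p : ℕ) [Fact p.Prime]
    {W : Type u} [Group W] {S : Subgroup W} [Finite S]
    (hS : IsPGroup p S) (F : Cfsg.FusionSystem S) (hF : F.IsSaturated p) (A : Subgroup W) (hA : F.IsCentral A)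
    {W' : Type v} [Group W'] {S' : Subgroup W'} (θ : ↥S →* W') (E : Cfsg.FusionSystem S')
    (hE : F.IsFactorSystem A θ E) (hr : E.IsRealizable p) : F.IsRealizable p := by
  obtain ⟨G₀, _, _, ι₀, hι₀, T, hT⟩ := hr
  have hθS : ∀ s : S, θ s ∈ S' := fun s => by rw [← hE.2.2.1]; exact ⟨s, rfl⟩
  let θ₀ : S →* G₀ := ι₀.comp (θ.codRestrict S' hθS)
  have hθ₀ : ∀ s : S, θ₀ s = ι₀ ⟨θ s, hθS s⟩ := fun _ => rfl
  have hker : ∀ s : S, θ₀ s = 1 ↔ (s : W) ∈ A := by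
    intro s
    rw [← hE.2.1 s, hθ₀, ← map_one ι₀, hι₀.1.eq_iff]
    exact Subtype.ext_iff
  have hkerA : θ₀.ker = A.subgroupOf S := by
    ext s
    rw [MonoidHom.mem_ker, hker, Subgroup.mem_subgroupOf]
  have hrange : θ₀.range = ι₀.range := by
    apply le_antisymm
    · rintro _ ⟨s, rfl⟩
      exact ⟨_, rfl⟩
    · rintro _ ⟨⟨y, hy⟩, rfl⟩
      have hy' := hy
      rw [← hE.2.2.1] at hy'
      obtain ⟨s, rfl⟩ := hy'
      exact ⟨s, rfl⟩
  -- the kernel is central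
  have hcenter : θ₀.ker ≤ Subgroup.center S := by
    intro a ha
    rw [Subgroup.mem_center_iff]
    intro g
    have h1 : conjHom S (g : W) ∈ F.Hom S := F.conj_mem le_rfl g.2
    have h2 := apply_of_central hA h1 a ((hker a).1 ha)
    apply Subtype.ext
    change (g : W) * (a : W) = a * g
    have h3 : (g : W) * (a : W) * (g : W)⁻¹ = a := h2
    rw [mul_inv_eq_iff_eq_mul] at h3
    exact h3
  -- stability
  have hst : ∀ g : G₀, ∃ φ : ↥(((T : Subgroup G₀) ⊓ cj g⁻¹ (T : Subgroup G₀)).comap θ₀) →* S,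
      (∀ s : ↥(((T : Subgroup G₀) ⊓ cj g⁻¹ (T : Subgroup G₀)).comap θ₀), θ₀ (φ s) = g * θ₀ (s : S) * g⁻¹) ∧
        ∀ s : ↥(((T : Subgroup G₀) ⊓ cj g⁻¹ (T : Subgroup G₀)).comap θ₀), θ₀ (s : S) = 1 → φ s = (s : S) := by
    intro g
    set Q : Subgroup S := ((T : Subgroup G₀) ⊓ cj g⁻¹ (T : Subgroup G₀)).comap θ₀ with hQ
    -- the subgroup of `W'`
    let P' : Subgroup W' := Q.map θ
    have hP' : P' ≤ S' := by
      rintro _ ⟨s, -, rfl⟩
      exact hθS s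
    have hg : ∀ x : P', g * ι₀ ⟨x, hP' x.2⟩ * g⁻¹ ∈ ι₀.range := by
      rintro ⟨_, ⟨s, hs, rfl⟩⟩
      have h1 : θ₀ s ∈ cj g⁻¹ (T : Subgroup G₀) := hs.2
      obtain ⟨t, ht, htg⟩ := h1
      rw [← hT]
      have h2 : g⁻¹ * t * (g⁻¹)⁻¹ = θ₀ s := htg
      have h3 : g * θ₀ s * g⁻¹ = t := by rw [← h2]; group
      change g * θ₀ s * g⁻¹ ∈ _
      rw [h3]
      exact ht
    obtain ⟨φ', hφ'S, hφ', hφ'g⟩ := exists_conj hι₀ hP' g hg
    obtain ⟨φ, hφ, h⟩ := exists_map_of_factor hE hφ'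
    have hmem : ∀ s : Q, ((s : S) : W) ∈ preimageAlong θ P' := by
      intro s
      exact mem_preimageAlong.2 ⟨(s : S).2, ⟨s, s.2, rfl⟩⟩
    have hφS := (F.le_of_mem hφ).2
    refine ⟨
      { toFun := fun s => ⟨φ ⟨((s : S) : W), hmem s⟩, hφS _⟩
        map_one' := Subtype.ext (by
          change φ ⟨_, _⟩ = 1
          rw [← map_one φ]
          rfl)
        map_mul' := fun s t => Subtype.ext (by
          change φ ⟨_, _⟩ = φ ⟨_, _⟩ * φ ⟨_, _⟩
          rw [← map_mul φ]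
          rfl) }, ?_, ?_⟩
    · intro s
      have h1 := h ((s : S) : W) (hmem s) (s : S).2 ⟨s, s.2, rfl⟩ (hφS _)
      have h2 := hφ'g ⟨θ (s : S), ⟨s, s.2, rfl⟩⟩
      change ι₀ ⟨θ ⟨φ ⟨((s : S) : W), hmem s⟩, hφS _⟩, _⟩ = g * ι₀ ⟨θ (s : S), _⟩ * g⁻¹
      rw [← h2]
      congr 1
      exact Subtype.ext h1.symm
    · intro s hs
      apply Subtype.ext
      exact apply_of_central hA hφ ⟨((s : S) : W), hmem s⟩ ((hker s).1 hs)
  obtain ⟨L, _, _, π, ι, hπ, hι, hπι, hπker, hπc⟩ := hext T hS θ₀ (hrange.trans hT.symm) hcenter hst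
  have hπι' : ∀ s : S, π (ι s) = θ₀ s := fun s => DFunLike.congr_fun hπι s
  rw [hkerA] at hπker
  -- the Sylow subgroup of `L`
  have hιr : ι.range = (T : Subgroup G₀).comap π := by
    apply le_antisymm
    · rintro _ ⟨s, rfl⟩
      rw [Subgroup.mem_comap, hπι', hT, ← hrange]
      exact ⟨s, rfl⟩
    · intro x hx
      rw [Subgroup.mem_comap, hT, ← hrange] at hx
      obtain ⟨s, hs⟩ := hx
      have h1 : x * (ι s)⁻¹ ∈ π.ker := by
        rw [MonoidHom.mem_ker, map_mul, map_inv, hπι', hs, mul_inv_cancel]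
      rw [hπker] at h1
      obtain ⟨a, -, ha⟩ := h1
      refine ⟨a * s, ?_⟩
      rw [map_mul, ha]
      group
  have hιp : IsPGroup p ι.range := hS.of_surjective ι.rangeRestrict ι.rangeRestrict_surjective
  have hind : ¬ p ∣ ι.range.index := by
    rw [hιr, Subgroup.index_comap_of_surjective _ hπ]
    exact T.not_dvd_index
  let TL : Sylow p L := hιp.toSylow hind
  refine hbr hS F hF A hA ι hι TL rfl ?_ ?_ ?_
  · rw [← hπker]
    exact hπc
  · -- h1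
    intro P hP φ hφS hAP hφ
    have hst' : F.StronglyClosed A := by
      refine ⟨hA.1, fun R hR ψ hψ x => ?_⟩
      rw [apply_of_central hA hψ x (hR x.2)]
      exact hR x.2
    have hle : imageAlong θ P ≤ S' := by rw [← hE.2.2.1]; exact imageAlong_le_range
    obtain ⟨φ', hφ', h⟩ := exists_factor_map hst' hE hφ hle (preimage_image hE hP hAP).le
    have hφ'S := (E.le_of_mem hφ').2
    obtain ⟨g, hg⟩ := (hι₀.2 _ hle φ' hφ'S).1 hφ'
    obtain ⟨l, rfl⟩ := hπ g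
    refine ⟨l, fun s => ?_⟩
    rw [← hπker, MonoidHom.mem_ker, map_mul, map_inv, map_mul, map_mul, map_inv, hπι', hπι', inv_mul_eq_one]
    have hsi : θ ⟨s, hP s.2⟩ ∈ imageAlong θ P := mem_imageAlong.2 ⟨s, hP s.2, s.2, rfl⟩
    have h1 := h s s.2 (hP s.2) hsi (hφS s)
    have h2 := hg ⟨θ ⟨s, hP s.2⟩, hsi⟩
    rw [hθ₀, hθ₀, ← h2]
    congr 1
    exact Subtype.ext h1
  · -- h2
    intro P hP hAP l hl
    have hle : imageAlong θ P ≤ S' := by rw [← hE.2.2.1]; exact imageAlong_le_range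
    have hg : ∀ x : ↥(imageAlong θ P), π l * ι₀ ⟨x, hle x.2⟩ * (π l)⁻¹ ∈ ι₀.range := by
      rintro ⟨_, hx⟩
      obtain ⟨s, hsS, hs, rfl⟩ := mem_imageAlong.1 hx
      obtain ⟨t, ht⟩ := hl ⟨s, hs⟩
      rw [← hrange]
      refine ⟨t, ?_⟩
      rw [← hπι', ht, map_mul, map_mul, map_inv, hπι']
      rfl
    obtain ⟨φ', hφ'S, hφ', hφ'g⟩ := exists_conj hι₀ hle (π l) hg
    obtain ⟨φ, hφ, h⟩ := exists_map_of_factor hE hφ'
    have hpre := (preimage_image hE hP hAP).symm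
    generalize preimageAlong θ (imageAlong θ P) = Q at hpre φ hφ h
    subst hpre
    have hφS := (F.le_of_mem hφ).2
    refine ⟨φ, hφS, hφ, fun s => ?_⟩
    rw [← hπker, MonoidHom.mem_ker, map_mul, map_inv, map_mul, map_mul, map_inv, hπι', hπι', inv_mul_eq_one]
    have hsi : θ ⟨s, hP s.2⟩ ∈ imageAlong θ P := mem_imageAlong.2 ⟨s, hP s.2, s.2, rfl⟩
    have h1 := h s s.2 (hP s.2) hsi (hφS s)
    have h2 := hφ'g ⟨θ ⟨s, hP s.2⟩, hsi⟩
    rw [hθ₀, hθ₀, ← h2]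
    congr 1
    exact Subtype.ext h1

end Cfsg.Agent.H269.Lim
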